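import Groth.Agent.L26.Mumford.Sky
import Groth.Agent.L26.AbDual.LamSurj
import Groth.Agent.L26.AbDual.Bidual

/-!
A dual abelian variety has the same dimension.
-/

set_option autoImplicit false
set_option linter.style.haveILetI false
set_option linter.unusedSectionVars false

universe u

open CategoryTheory CategoryTheory.Limits MonoidalCategory CartesianMonoidalCategory MonObj GrpObj AlgebraicGeometry
open Groth.Agent.L26.Mumford

namespace Groth.Agent.L26.FMInv

/-- The dual has the same dimension. -/
theorem dim_dual {k : Type u} [Field k] {A At : Over (Spec (CommRingCat.of k))} [GrpObj A] [GrpObj At]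
    [IsProper A.hom] [Smooth A.hom] [GeometricallyConnected A.hom]
    [IsProper At.hom] [Smooth At.hom] [GeometricallyConnected At.hom]
    {φ : ∀ T : Over (Spec (CommRingCat.of k)), PicF.Cl (PicF.XT A.hom T) → (T ⟶ At)}
    (hφ : AbDual.IsDualAV Scheme.fppfPrecoverage A At φ) (P : (pullback A.hom At.hom).Modules)
    (hPξ : AbDual.IsPoincareCl A At φ (PicF.cl P)) :
    topologicalKrullDim ↥At.left = topologicalKrullDim ↥A.left := by
  haveI : GeometricallyIntegral A.hom := geometricallyIntegral_av A
  haveI : IsCommMonObj A := isCommMonObj_of_isProper_of_geometricallyIntegral A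
  haveI : GeometricallyIntegral At.hom := geometricallyIntegral_av At
  haveI : IsCommMonObj At := isCommMonObj_of_isProper_of_geometricallyIntegral At
  obtain ⟨L, hL⟩ := Groth.Agent.AV.Degree.exists_isAmple A
  obtain ⟨K, i, -, hKf, hKer⟩ := Groth.Agent.LamSurj.exists_kernel hφ L hL
  haveI := hKf
  haveI := Groth.Agent.LamSurj.surjective_lamOf hφ L hL
  haveI := Groth.Agent.Poincare.Pairing.isMonHom_lamOf hφ hPξ L hL.1
  haveI := (Groth.L00.TransIsog.isFinite_flat (Groth.Agent.Poincare.Pairing.lamOf φ L hL.1) i hKer).1
  exact (Groth.Agent.Bidual.dim_eq_of_finite (Groth.Agent.Poincare.Pairing.lamOf φ L hL.1)).symm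

end Groth.Agent.L26.FMInv
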