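import Groth.Agent.L26.FMInv.Inversion
import Groth.Agent.L29.DCoh.Gen.QCohTri

/-!
The transform of a Poincaré bundle is an equivalence on quasi-coherent objects.
-/

set_option autoImplicit false
set_option linter.style.haveILetI false
set_option linter.unusedSectionVars false
set_option backward.defeqAttrib.useBackward true
set_option backward.isDefEq.respectTransparency false
set_option backward.isDefEq.respectTransparency.types false

universe u

open CategoryTheory CategoryTheory.Limits MonoidalCategory CartesianMonoidalCategory MonObj GrpObj AlgebraicGeometry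

attribute [local instance] HasDerivedCategory.standard

namespace Groth.Agent.L26.FMInv

open Groth.L29.BC Groth.L29.DC

/-- A functor whose composites on both sides are equivalences is an equivalence. -/
theorem isEquivalence_of_comp {C D : Type*} [Category C] [Category D] (F : C ⥤ D) (G : D ⥤ C)
    [(F ⋙ G).IsEquivalence] [(G ⋙ F).IsEquivalence] : F.IsEquivalence := by
  haveI : F.Faithful := Functor.Faithful.of_comp F G
  haveI : G.Faithful := Functor.Faithful.of_comp G F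
  haveI : F.Full := Functor.Full.of_comp_faithful F G
  haveI : F.EssSurj := ⟨fun Y => ⟨G.obj ((G ⋙ F).objPreimage Y), ⟨(G ⋙ F).objObjPreimageIso Y⟩⟩⟩
  exact {}

variable {X : Scheme.{u}}

/-- An involution followed by a shift is an equivalence on quasi-coherent objects. -/
theorem isEquivalence_involution_shift (σ : X ⟶ X) (hσ : σ ≫ σ = 𝟙 X) [DCoh.HasLpull σ] (n : ℤ)
    (F : ObjectProperty.FullSubcategory (DCoh.IsQCohD (X := X)) ⥤ ObjectProperty.FullSubcategory (DCoh.IsQCohD (X := X)))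
    (e : F ⋙ ObjectProperty.ι _ ≅ ObjectProperty.ι _ ⋙ DCoh.Lpull σ ⋙ shiftFunctor (DCoh.D X) n) :
    F.IsEquivalence := by
  haveI := Groth.L00.KFlat.hasLpull (𝟙 X)
  let E := DCoh.Lpull σ ⋙ shiftFunctor (DCoh.D X) n
  haveI : (DCoh.Lpull σ).IsEquivalence := by
    obtain ⟨l⟩ := Groth.L10.FMBC.nonempty_lpull_comp' σ σ hσ
    obtain ⟨l'⟩ := Groth.L10.FMDiag.nonempty_Lpull_id (X := X)
    exact (CategoryTheory.Equivalence.mk (DCoh.Lpull σ) (DCoh.Lpull σ) (l ≪≫ l').symm (l ≪≫ l')).isEquivalence_functor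
  haveI : E.IsEquivalence := by
    show (DCoh.Lpull σ ⋙ shiftFunctor (DCoh.D X) n).IsEquivalence
    infer_instance
  let j := ObjectProperty.ι (DCoh.IsQCohD (X := X))
  haveI : (F ⋙ j).Full := Functor.Full.of_iso e.symm
  haveI : (F ⋙ j).Faithful := Functor.Faithful.of_iso e.symm
  haveI : F.Faithful := Functor.Faithful.of_comp F j
  haveI : F.Full := Functor.Full.of_comp_faithful F j
  haveI : F.EssSurj := ⟨fun Y => by
    obtain ⟨l⟩ := Groth.L10.FMBC.nonempty_lpull_comp' σ σ hσ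
    obtain ⟨l'⟩ := Groth.L10.FMDiag.nonempty_Lpull_id (X := X)
    refine ⟨⟨(DCoh.Lpull σ).obj (Y.obj⟦-n⟧), isQCohD_Lpull σ (Gen.isQCohD_shift Y.property (-n))⟩, ⟨?_⟩⟩
    exact j.preimageIso (e.app _ ≪≫ (shiftFunctor (DCoh.D X) n).mapIso ((l ≪≫ l').app _) ≪≫
      (shiftFunctorCompIsoId (DCoh.D X) (-n) n (neg_add_cancel n)).app Y.obj)⟩
  exact {}

theorem inv_left_sq {S : Scheme.{u}} (A : Over S) [GrpObj A] : ((𝟙 A)⁻¹).left ≫ ((𝟙 A)⁻¹).left = 𝟙 A.left := by
  rw [← Over.comp_left, GrpObj.comp_inv, Category.comp_id, _root_.inv_inv, Over.id_left]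

variable {k : Type u} [Field k] {A At : Over (Spec (CommRingCat.of k))} [GrpObj A] [GrpObj At]
  [IsProper A.hom] [Smooth A.hom] [GeometricallyConnected A.hom]
  [IsProper At.hom] [Smooth At.hom] [GeometricallyConnected At.hom]
  {φ : ∀ T : Over (Spec (CommRingCat.of k)), PicF.Cl (PicF.XT A.hom T) → (T ⟶ At)}
  (hφ : AbDual.IsDualAV Scheme.fppfPrecoverage A At φ) (P : (pullback A.hom At.hom).Modules)
  (hP : PicF.IsInvertible P) (hPξ : AbDual.IsPoincareCl A At φ (PicF.cl P))
  (g : ℕ) (hgA : topologicalKrullDim ↥A.left = g) (hgAt : topologicalKrullDim ↥At.left = g)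

include hφ hP hPξ hgA hgAt

/-- The transform is an equivalence. -/
theorem isEquivalence_transform
    [DCoh.HasLpull (pullback.fst A.hom At.hom)] [DCoh.HasLTensorMod P] [DCoh.HasRpush (pullback.snd A.hom At.hom)]
    (h : ∀ M : DCoh.D A.left, DCoh.IsQCohD M → DCoh.IsQCohD ((DCoh.Lpull (pullback.fst A.hom At.hom) ⋙
      DCoh.LTensorMod P ⋙ DCoh.Rpush (pullback.snd A.hom At.hom)).obj M)) :
    (ObjectProperty.lift (DCoh.IsQCohD (X := At.left))
        (ObjectProperty.ι (DCoh.IsQCohD (X := A.left)) ⋙ (DCoh.Lpull (pullback.fst A.hom At.hom) ⋙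
          DCoh.LTensorMod P ⋙ DCoh.Rpush (pullback.snd A.hom At.hom)))
        (fun M => h M.obj M.property)).IsEquivalence := by
  haveI := fun {V W : Scheme.{u}} (f : V ⟶ W) => RpushQC.hasRpush f
  haveI := fun {V W : Scheme.{u}} (f : V ⟶ W) => Groth.L00.KFlat.hasLpull f
  haveI := fun {V : Scheme.{u}} (E : CochainComplex V.Modules ℤ) => Groth.L00.KFlat.hasLTensorCx E
  haveI : DCoh.HasLTensorMod (Mumford.flipP P) := Groth.L00.DerivedApi.hasLTensorMod _
  let Φ := DCoh.Lpull (pullback.fst A.hom At.hom) ⋙ DCoh.LTensorMod P ⋙ DCoh.Rpush (pullback.snd A.hom At.hom)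
  let Ψ := DCoh.Lpull (pullback.fst At.hom A.hom) ⋙ DCoh.LTensorMod (Mumford.flipP P) ⋙
    DCoh.Rpush (pullback.snd At.hom A.hom)
  have hΨ : ∀ M, DCoh.IsQCohD M → DCoh.IsQCohD (Ψ.obj M) := fun M hM =>
    RpushQC.isQCohD_Rpush (pullback.snd At.hom A.hom) _
      (Groth.L10.FMBC.isQCohD_ltm (PicLoc.isInvertible_pullback _ hP) (isQCohD_Lpull (pullback.fst At.hom A.hom) hM))
  let F := ObjectProperty.lift (DCoh.IsQCohD (X := At.left)) (ObjectProperty.ι (DCoh.IsQCohD (X := A.left)) ⋙ Φ)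
    (fun M => h M.obj M.property)
  let G := ObjectProperty.lift (DCoh.IsQCohD (X := A.left)) (ObjectProperty.ι (DCoh.IsQCohD (X := At.left)) ⋙ Ψ)
    (fun M => hΨ M.obj M.property)
  obtain ⟨e₁⟩ := nonempty_comp hφ P hP hPξ g hgA hgAt
  obtain ⟨e₂⟩ := nonempty_comp' hφ P hP hPξ g hgA hgAt
  haveI : (F ⋙ G).IsEquivalence :=
    isEquivalence_involution_shift ((𝟙 A)⁻¹).left (inv_left_sq A) (-(g : ℤ)) (F ⋙ G) e₁
  haveI : (G ⋙ F).IsEquivalence :=
    isEquivalence_involution_shift ((𝟙 At)⁻¹).left (inv_left_sq At) (-(g : ℤ)) (G ⋙ F) e₂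
  exact isEquivalence_of_comp F G

end Groth.Agent.L26.FMInv
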