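import Groth.Agent.L10.FMBC.ModKernel
import Groth.Agent.L10.FMBC.Diag
import Groth.Agent.L10.RegDiag.Basic
import Groth.Agent.Lead.AffLine.LTShift
import Groth.Agent.L10.DerTrunc
import Groth.Agent.L07.FMDiag.Kernel

/-!
Kernel functors of shifted graphs, and derived direct images concentrated in one degree.
-/

set_option autoImplicit false
set_option linter.style.haveILetI false
set_option backward.defeqAttrib.useBackward true
set_option backward.isDefEq.respectTransparency false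
set_option backward.isDefEq.respectTransparency.types false

universe u

open CategoryTheory CategoryTheory.Limits AlgebraicGeometry

attribute [local instance] HasDerivedCategory.standard

namespace Groth.Agent.L26.FMInv

open Groth.L29.BC Groth.L29.DC

variable {X Y : Scheme.{u}}

/-- A derived direct image with one higher direct image. -/
theorem nonempty_Rpush_of_concentrated (q : X ⟶ Y) [HasInjectiveResolutions X.Modules] [DCoh.HasRpush q]
    (M : X.Modules) (F : Y.Modules) (g : ℕ) (h0 : ∀ i : ℕ, i ≠ g → IsZero ((Coh.Rpush q i).obj M))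
    (hg : Nonempty ((Coh.Rpush q g).obj M ≅ F)) :
    Nonempty ((DCoh.Rpush q).obj (DCoh.inD X M) ≅ (DCoh.inD Y F)⟦-(g : ℤ)⟧) := by
  haveI := QRlim.enoughKInj X
  haveI := Groth.L17.PushQCoh.additive_push q
  haveI : EnoughInjectives X.Modules := (Groth.L10.ModRDer.insts X.sheaf).1
  obtain ⟨hge, hp⟩ := Groth.L10.RDerTri.isGE_single ((DCoh.pushKh q).totalRightDerivedUnit DerivedCategory.Qh
    (HomotopyCategory.quasiIso X.Modules (ComplexShape.up ℤ))) M
  let E := (DCoh.Rpush q).obj ((DerivedCategory.singleFunctor X.Modules 0).obj M)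
  have hz : ∀ i : ℤ, i ≠ g → IsZero ((DerivedCategory.homologyFunctor Y.Modules i).obj E) := fun i hi => by
    by_cases hi0 : i < 0
    · haveI := hge
      exact DerivedCategory.isZero_of_isGE E 0 i hi0
    · obtain ⟨p, rfl⟩ : ∃ p : ℕ, i = p := ⟨i.toNat, (Int.toNat_of_nonneg (by omega)).symm⟩
      exact (h0 p (fun h => hi (by rw [h]))).of_iso (hp p).some
  haveI : E.IsGE (g : ℤ) := (DerivedCategory.isGE_iff _ _).2 fun i hi => hz i hi.ne
  haveI : E.IsLE (g : ℤ) := (DerivedCategory.isLE_iff _ _).2 fun i hi => hz i hi.ne'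
  obtain ⟨e⟩ := Groth.L10.exists_iso_single_H E (g : ℤ)
  exact ⟨e ≪≫ (DerivedCategory.singleFunctor Y.Modules (g : ℤ)).mapIso ((hp g).some ≪≫ hg.some) ≪≫
    ((((DerivedCategory.singleFunctors Y.Modules).shiftIso (-(g : ℤ)) (g : ℤ) 0 (by omega)).app F)).symm⟩

/-- The kernel functor of a shifted graph. -/
theorem nonempty_phi_graph {Z : Scheme.{u}} (i : X ⟶ Z) [IsClosedImmersion i] (p : Z ⟶ Y) (q : Z ⟶ X) (σ : X ⟶ Y)
    (hp : i ≫ p = σ) (hq : i ≫ q = 𝟙 X) (n : ℤ) (K : CochainComplex Z.Modules ℤ)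
    (hK : Nonempty (DCoh.toD Z K ≅ (DCoh.inD Z ((Coh.push i).obj (Coh.structureModule X)))⟦n⟧))
    [DCoh.HasLpull p] [DCoh.HasLTensorCx K] [DCoh.HasRpush q] [DCoh.HasLpull σ] :
    Nonempty (DCoh.Lpull p ⋙ DCoh.LTensorCx K ⋙ DCoh.Rpush q ≅
      DCoh.Lpull σ ⋙ shiftFunctor (DCoh.D X) n) := by
  haveI := Groth.L17.PushQCoh.additive_push i
  haveI := Groth.L00.KFlat.hasLpull i
  haveI := RpushQC.hasRpush i
  haveI := RpushQC.hasRpush (i ≫ q)
  let G : CochainComplex X.Modules ℤ := (RHom.O0 X)⟦n⟧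
  haveI : DCoh.HasLTensorCx G := Groth.L00.KFlat.hasLTensorCx _
  haveI : DCoh.HasLTensorCx ((Proj.pushCx i).obj G) := Groth.L00.KFlat.hasLTensorCx _
  letI := Gen.commShiftRpush i
  obtain ⟨eK⟩ := hK
  obtain ⟨ps⟩ := Groth.L10.RegDiag.nonempty_push_single i (Coh.structureModule X)
  let eG : DCoh.toD X G ≅ (DCoh.toD X (RHom.O0 X))⟦n⟧ := (DerivedCategory.Q.commShiftIso n).app (RHom.O0 X)
  let eA : DCoh.toD Z K ≅ DCoh.toD Z ((Proj.pushCx i).obj G) :=
    eK ≪≫ (shiftFunctor (DCoh.D Z) n).mapIso ps ≪≫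
      (((DCoh.Rpush i).commShiftIso n).app (DCoh.toD X (RHom.O0 X))).symm ≪≫
      (DCoh.Rpush i).mapIso eG.symm ≪≫ ((Groth.L10.FMDiag.rpushIso i).app G).symm
  obtain ⟨c⟩ := ProjQC.nonempty_LTensorCx_congr eA
  obtain ⟨s⟩ := Groth.Lead.AffLine.nonempty_lt_shift G n eG
  obtain ⟨τ, hτ⟩ := PFNat.exists_natTrans (DCoh.LTensorCx ((Proj.pushCx i).obj G))
    (DCoh.Lpull i ⋙ DCoh.LTensorCx G ⋙ DCoh.Rpush i)
    (PFNat.pf i G (𝟙 _)) (fun hP hP' m => PFNat.pf_natural i G (𝟙 _) hP hP' m)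
  haveI := Groth.L10.FMDiag.isIso_of_kflat τ fun P hP => by
    rw [hτ P hP]
    haveI := LTExact.isIso_cnt G (Groth.L00.KFlat.pullback_kflat i P hP)
    haveI := LTExact.isIso_cnt ((Proj.pushCx i).obj G) hP
    haveI := Groth.L10.FMDiag.isIso_proj i G P
    haveI := Groth.L10.FMDiag.isIso_pushComp i (ProjQis.T i G P)
    unfold PFNat.pf
    infer_instance
  obtain ⟨l⟩ := Groth.L10.FMBC.nonempty_lpull_comp' i p hp
  obtain ⟨r⟩ := Groth.L10.FMBC.nonempty_rpush_comp' i q (k := i ≫ q) rfl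
  obtain ⟨r'⟩ := Groth.L10.FMDiag.nonempty_Rpush_eq_id hq
  exact ⟨Functor.isoWhiskerLeft (DCoh.Lpull p) (Functor.isoWhiskerRight (c ≪≫ asIso τ) (DCoh.Rpush q)) ≪≫
    Functor.isoWhiskerRight l (DCoh.LTensorCx G ⋙ DCoh.Rpush i ⋙ DCoh.Rpush q) ≪≫
    Functor.isoWhiskerLeft (DCoh.Lpull σ) (Functor.isoWhiskerRight s (DCoh.Rpush i ⋙ DCoh.Rpush q) ≪≫
      Functor.isoWhiskerLeft (shiftFunctor (DCoh.D X) n) (r ≪≫ r') ≪≫ Functor.rightUnitor _)⟩

variable {T A B : Scheme.{u}}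

/-- The inner object of a convolution of two invertible modules. -/
theorem nonempty_tensor_pull (p : T ⟶ A) (p' : T ⟶ B) {P : A.Modules} (hP : PicF.IsInvertible P) {P' : B.Modules}
    (hP' : PicF.IsInvertible P') (M : T.Modules)
    (hM : Nonempty (CohB1.tensorMod ((Scheme.Modules.pullback p).obj P) ((Scheme.Modules.pullback p').obj P') ≅ M))
    [DCoh.HasLpull p] [DCoh.HasLTensorCx ((FMK.cxPull p').obj (Groth.Lead.LTMod.S0 P'))] :
    Nonempty ((DCoh.LTensorCx ((FMK.cxPull p').obj (Groth.Lead.LTMod.S0 P'))).obj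
        ((DCoh.Lpull p).obj (DCoh.toD A (Groth.Lead.LTMod.S0 P))) ≅ DCoh.toD T (Groth.Lead.LTMod.S0 M)) := by
  haveI := fun (E : CochainComplex T.Modules ℤ) => Groth.L00.KFlat.hasLTensorCx E
  haveI := Groth.L29.RelPC.additive_pullback p'
  let P₁ := (Scheme.Modules.pullback p).obj P
  let P₂ := (Scheme.Modules.pullback p').obj P'
  have hP₂ : PicF.IsInvertible P₂ := PicLoc.isInvertible_pullback _ hP'
  obtain ⟨e₁⟩ := Groth.L10.FMBC.nonempty_S0_pull p hP (Iso.refl P₁)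
  let e₂ : DerivedCategory.Q.obj ((FMK.cxPull p').obj (Groth.Lead.LTMod.S0 P')) ≅
      DerivedCategory.Q.obj (Groth.Lead.LTMod.S0 P₂) :=
    DerivedCategory.Q.mapIso ((HomologicalComplex.singleMapHomologicalComplex (Scheme.Modules.pullback p')
      (ComplexShape.up ℤ) 0).app P')
  obtain ⟨c⟩ := ProjQC.nonempty_LTensorCx_congr e₂
  obtain ⟨t⟩ := Groth.L10.FMBC.nonempty_singleTensor P₁ P₂
  exact ⟨(DCoh.LTensorCx _).mapIso e₁.symm ≪≫ c.app _ ≪≫
    (Assoc.allIso _ (Groth.L10.FMBC.isKFlat_S0 hP₂)).app (Groth.Lead.LTMod.S0 P₁) ≪≫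
    DerivedCategory.Q.mapIso (t ≪≫ (HomologicalComplex.single T.Modules (ComplexShape.up ℤ) 0).mapIso hM.some)⟩

end Groth.Agent.L26.FMInv
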