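import Groth.Agent.L26.FMInv.Generic
import Groth.Agent.L26.Mumford.Fst
import Groth.Agent.L10.FMBC.Mumford
import Groth.Agent.L10.FMBC.Equiv

/-!
The composite of the two transforms of a Poincaré bundle.
-/

set_option autoImplicit false
set_option linter.style.haveILetI false
set_option linter.unusedSectionVars false
set_option maxSynthPendingDepth 3
set_option backward.defeqAttrib.useBackward true
set_option backward.isDefEq.respectTransparency false
set_option backward.isDefEq.respectTransparency.types false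

universe u

open CategoryTheory CategoryTheory.Limits MonoidalCategory CartesianMonoidalCategory MonObj GrpObj AlgebraicGeometry

attribute [local instance] HasDerivedCategory.standard

namespace Groth.Agent.L26.FMInv

open Groth.L29.BC Groth.L29.DC
open Groth.Agent.L26.Mumford (flipP orig)

section Squares

variable {S : Scheme.{u}} (A At : Over S) [GrpObj A]

/-- The map of the triple product adding the outer variables. -/
noncomputable def theta : FMK.T A.hom At.hom A.hom ⟶ pullback At.hom A.hom :=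
  pullback.lift (FMK.p12 A.hom At.hom A.hom ≫ pullback.snd A.hom At.hom)
    (FMK.p13 A.hom At.hom A.hom ≫ μ[A].left) (by
      rw [Category.assoc, Category.assoc, Over.w μ[A]]
      show _ = FMK.p13 A.hom At.hom A.hom ≫ pullback.fst A.hom A.hom ≫ A.hom
      rw [← pullback.condition, FMK.p13_fst_assoc])

theorem theta_fst : theta A At ≫ pullback.fst At.hom A.hom =
    FMK.p12 A.hom At.hom A.hom ≫ pullback.snd A.hom At.hom := pullback.lift_fst _ _ _

theorem theta_snd : theta A At ≫ pullback.snd At.hom A.hom = FMK.p13 A.hom At.hom A.hom ≫ μ[A].left :=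
  pullback.lift_snd _ _ _

/-- The sum square is cartesian. -/
theorem isPullback_theta :
    IsPullback (theta A At) (FMK.p13 A.hom At.hom A.hom) (pullback.snd At.hom A.hom) μ[A].left := by
  have h := (Groth.L10.FMBC.isPullback_p13 A.hom At.hom A.hom).paste_horiz
    (IsPullback.of_hasPullback A.hom At.hom).flip
  rw [← theta_fst] at h
  refine IsPullback.of_right ?_ (theta_snd A At) (IsPullback.of_hasPullback At.hom A.hom)
  rw [show μ[A].left ≫ A.hom = pullback.fst A.hom A.hom ≫ A.hom from Over.w μ[A]]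
  exact h

end Squares

section Poincare

variable {k : Type u} [Field k] {A At : Over (Spec (CommRingCat.of k))} [GrpObj A] [GrpObj At]
  [IsProper A.hom] [Smooth A.hom] [GeometricallyConnected A.hom]
  [IsProper At.hom] [Smooth At.hom] [GeometricallyConnected At.hom]
  {φ : ∀ T : Over (Spec (CommRingCat.of k)), PicF.Cl (PicF.XT A.hom T) → (T ⟶ At)}
  (hφ : AbDual.IsDualAV Scheme.fppfPrecoverage A At φ) (P : (pullback A.hom At.hom).Modules)
  (hP : PicF.IsInvertible P) (hPξ : AbDual.IsPoincareCl A At φ (PicF.cl P))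

include hφ hP hPξ in
/-- The product of the two kernels is the pullback along the sum. -/
theorem nonempty_kernel_sum :
    Nonempty (CohB1.tensorMod ((Scheme.Modules.pullback (FMK.p12 A.hom At.hom A.hom)).obj P)
        ((Scheme.Modules.pullback (FMK.p23 A.hom At.hom A.hom)).obj (flipP P)) ≅
      (Scheme.Modules.pullback (theta A At)).obj (flipP P)) := by
  refine (PicGrp.cl_eq_cl_iff _ _).1 ?_
  let a := A.hom
  let b := At.hom
  let W : Over (Spec (CommRingCat.of k)) := Over.mk (FMK.p12 a b a ≫ pullback.fst a b ≫ a)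
  let a₁ : W ⟶ A := Over.homMk (FMK.p12 a b a ≫ pullback.fst a b) (Category.assoc _ _ _)
  let α : W ⟶ At := Over.homMk (FMK.p12 a b a ≫ pullback.snd a b) (by
    show (FMK.p12 a b a ≫ pullback.snd a b) ≫ b = FMK.p12 a b a ≫ pullback.fst a b ≫ a
    rw [Category.assoc, pullback.condition])
  let a₂ : W ⟶ A := Over.homMk (FMK.p23 a b a ≫ pullback.snd b a) (by
    show (FMK.p23 a b a ≫ pullback.snd b a) ≫ a = FMK.p12 a b a ≫ pullback.fst a b ≫ a
    rw [← FMK.p12_fst_comp_eq_p23_snd_comp a b a, Category.assoc])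
  have h13 : FMK.p13 a b a = (lift a₁ a₂).left := by
    apply pullback.hom_ext
    · rw [FMK.p13_fst]
      exact (congrArg CommaMorphism.left (lift_fst a₁ a₂)).symm
    · rw [FMK.p13_snd]
      exact (congrArg CommaMorphism.left (lift_snd a₁ a₂)).symm
  have e₁ : PicF.pullCl (FMK.p12 a b a) (PicF.cl P) = AbDualLib.bil (PicF.cl P) a₁ α := by
    refine congrArg (fun m => PicF.pullCl m (PicF.cl P)) ?_
    apply pullback.hom_ext
    · exact (congrArg CommaMorphism.left (lift_fst a₁ α)).symm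
    · exact (congrArg CommaMorphism.left (lift_snd a₁ α)).symm
  have e₂ : PicF.pullCl (FMK.p23 a b a) (PicF.cl (flipP P)) = AbDualLib.bil (PicF.cl P) a₂ α := by
    rw [← Mumford.bil_flip]
    refine congrArg (fun m => PicF.pullCl m (PicF.cl (flipP P))) ?_
    apply pullback.hom_ext
    · exact pullback.condition.symm.trans (congrArg CommaMorphism.left (lift_fst α a₂)).symm
    · exact (congrArg CommaMorphism.left (lift_snd α a₂)).symm
  have e₃ : PicF.pullCl (theta A At) (PicF.cl (flipP P)) = AbDualLib.bil (PicF.cl P) (a₁ * a₂) α := by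
    rw [← Mumford.bil_flip]
    refine congrArg (fun m => PicF.pullCl m (PicF.cl (flipP P))) ?_
    apply pullback.hom_ext
    · exact (theta_fst A At).trans (congrArg CommaMorphism.left (lift_fst α (a₁ * a₂))).symm
    · refine ((theta_snd A At).trans ?_).trans (congrArg CommaMorphism.left (lift_snd α (a₁ * a₂))).symm
      show FMK.p13 a b a ≫ μ[A].left = _
      rw [h13]
      rfl
  show PicGrp.mulCl (PicF.pullCl _ (PicF.cl P)) (PicF.pullCl _ (PicF.cl (flipP P))) =
    PicF.pullCl (theta A At) (PicF.cl (flipP P))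
  rw [e₁, e₂, e₃, AbDualLib.bil_mul_left hφ hPξ]

include hφ hP hPξ in
/-- The same on the dual side. -/
theorem nonempty_kernel_sum' :
    Nonempty (CohB1.tensorMod ((Scheme.Modules.pullback (FMK.p12 At.hom A.hom At.hom)).obj (flipP P))
        ((Scheme.Modules.pullback (FMK.p23 At.hom A.hom At.hom)).obj P) ≅
      (Scheme.Modules.pullback (theta At A)).obj P) := by
  refine (PicGrp.cl_eq_cl_iff _ _).1 ?_
  let a := At.hom
  let b := A.hom
  let W : Over (Spec (CommRingCat.of k)) := Over.mk (FMK.p12 a b a ≫ pullback.fst a b ≫ a)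
  let α₁ : W ⟶ At := Over.homMk (FMK.p12 a b a ≫ pullback.fst a b) (Category.assoc _ _ _)
  let x : W ⟶ A := Over.homMk (FMK.p12 a b a ≫ pullback.snd a b) (by
    show (FMK.p12 a b a ≫ pullback.snd a b) ≫ b = FMK.p12 a b a ≫ pullback.fst a b ≫ a
    rw [Category.assoc, pullback.condition])
  let α₂ : W ⟶ At := Over.homMk (FMK.p23 a b a ≫ pullback.snd b a) (by
    show (FMK.p23 a b a ≫ pullback.snd b a) ≫ a = FMK.p12 a b a ≫ pullback.fst a b ≫ a
    rw [← FMK.p12_fst_comp_eq_p23_snd_comp a b a, Category.assoc])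
  have h13 : FMK.p13 a b a = (lift α₁ α₂).left := by
    apply pullback.hom_ext
    · rw [FMK.p13_fst]
      exact (congrArg CommaMorphism.left (lift_fst α₁ α₂)).symm
    · rw [FMK.p13_snd]
      exact (congrArg CommaMorphism.left (lift_snd α₁ α₂)).symm
  have e₁ : PicF.pullCl (FMK.p12 a b a) (PicF.cl (flipP P)) = AbDualLib.bil (PicF.cl P) x α₁ := by
    rw [← Mumford.bil_flip]
    refine congrArg (fun m => PicF.pullCl m (PicF.cl (flipP P))) ?_
    apply pullback.hom_ext
    · exact (congrArg CommaMorphism.left (lift_fst α₁ x)).symm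
    · exact (congrArg CommaMorphism.left (lift_snd α₁ x)).symm
  have e₂ : PicF.pullCl (FMK.p23 a b a) (PicF.cl P) = AbDualLib.bil (PicF.cl P) x α₂ := by
    refine congrArg (fun m => PicF.pullCl m (PicF.cl P)) ?_
    apply pullback.hom_ext
    · exact pullback.condition.symm.trans (congrArg CommaMorphism.left (lift_fst x α₂)).symm
    · exact (congrArg CommaMorphism.left (lift_snd x α₂)).symm
  have e₃ : PicF.pullCl (theta At A) (PicF.cl P) = AbDualLib.bil (PicF.cl P) x (α₁ * α₂) := by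
    refine congrArg (fun m => PicF.pullCl m (PicF.cl P)) ?_
    apply pullback.hom_ext
    · exact (theta_fst At A).trans (congrArg CommaMorphism.left (lift_fst x (α₁ * α₂))).symm
    · refine ((theta_snd At A).trans ?_).trans (congrArg CommaMorphism.left (lift_snd x (α₁ * α₂))).symm
      show FMK.p13 a b a ≫ μ[At].left = _
      rw [h13]
      rfl
  show PicGrp.mulCl (PicF.pullCl _ (PicF.cl (flipP P))) (PicF.pullCl _ (PicF.cl P)) =
    PicF.pullCl (theta At A) (PicF.cl P)
  rw [e₁, e₂, e₃, AbDualLib.bil_mul_right hφ hPξ]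

end Poincare

section Antidiag

variable {k : Type u} [Field k] {A : Over (Spec (CommRingCat.of k))} [GrpObj A] [IsProper A.hom]

/-- The antidiagonal. -/
noncomputable abbrev antidiag (A : Over (Spec (CommRingCat.of k))) [GrpObj A] : A ⟶ A ⊗ A := lift (𝟙 A)⁻¹ (𝟙 A)

theorem isPullback_antidiag : IsPullback A.hom (antidiag A).left η[A].left μ[A].left := by
  refine IsPullback.of_bot (v₂₁ := (snd A A).left) (v₂₂ := A.hom) ?_ ?_ (Groth.L10.FMBC.isPullback_mul (A := A))
  · rw [show (antidiag A).left ≫ (snd A A).left = 𝟙 A.left from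
        congrArg (fun m : A ⟶ A => m.left) (lift_snd (𝟙 A)⁻¹ (𝟙 A)),
      show η[A].left ≫ A.hom = 𝟙 _ from Over.w η[A]]
    haveI : IsIso (𝟙 A.left) := IsIso.id _
    haveI : IsIso (𝟙 (𝟙_ (Over (Spec (CommRingCat.of k)))).left) := IsIso.id _
    exact IsPullback.of_vert_isIso ⟨(Category.comp_id _).trans (Category.id_comp _).symm⟩
  · show A.hom ≫ η[A].left = (antidiag A ≫ μ[A]).left
    rw [show antidiag A ≫ μ[A] = (𝟙 A)⁻¹ * 𝟙 A from rfl, inv_mul_cancel, Hom.one_def, Over.comp_left,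
      Over.toUnit_left]

theorem isClosedImmersion_antidiag : IsClosedImmersion (antidiag A).left := by
  haveI : IsClosedImmersion η[A].left := by
    haveI : IsClosedImmersion (η[A].left ≫ A.hom) := by
      rw [Over.w η[A]]
      exact inferInstanceAs (IsClosedImmersion (𝟙 _))
    exact IsClosedImmersion.of_comp η[A].left A.hom
  exact MorphismProperty.of_isPullback isPullback_antidiag ‹IsClosedImmersion η[A].left›

end Antidiag

section General

variable {k : Type u} [Field k] {A Q : Over (Spec (CommRingCat.of k))} [GrpObj A]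
  [IsProper A.hom] [Flat A.hom] [IsProper Q.hom] [Flat Q.hom]
  (P : (pullback A.hom Q.hom).Modules) (hP : PicF.IsInvertible P)
  (P' : (pullback Q.hom A.hom).Modules) (hP' : PicF.IsInvertible P')
  (hsum : Nonempty (CohB1.tensorMod ((Scheme.Modules.pullback (FMK.p12 A.hom Q.hom A.hom)).obj P)
      ((Scheme.Modules.pullback (FMK.p23 A.hom Q.hom A.hom)).obj P') ≅
    (Scheme.Modules.pullback (theta A Q)).obj P'))
  (g : ℕ) [HasInjectiveResolutions (pullback Q.hom A.hom).Modules]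
  (h0 : ∀ i : ℕ, i ≠ g → IsZero ((Coh.Rpush (pullback.snd Q.hom A.hom) i).obj P'))
  (htop : Nonempty ((Coh.Rpush (pullback.snd Q.hom A.hom) g).obj P' ≅
    (Coh.push η[A].left).obj (Coh.structureModule (Spec (CommRingCat.of k)))))

include hP hP' hsum h0 htop

set_option maxHeartbeats 1600000 in
/-- The composite kernel is the shifted antidiagonal. -/
theorem nonempty_conv
    [DCoh.HasLpull (FMK.p12 A.hom Q.hom A.hom)]
    [DCoh.HasLTensorCx ((FMK.cxPull (FMK.p23 A.hom Q.hom A.hom)).obj (Groth.Lead.LTMod.S0 P'))]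
    [DCoh.HasRpush (FMK.p13 A.hom Q.hom A.hom)] :
    Nonempty (FMK.conv A.hom Q.hom A.hom (Groth.Lead.LTMod.S0 P)
        ((FMK.cxPull (FMK.p23 A.hom Q.hom A.hom)).obj (Groth.Lead.LTMod.S0 P')) ≅
      (DCoh.inD (pullback A.hom A.hom) ((Coh.push (antidiag A).left).obj (Coh.structureModule A.left)))⟦-(g : ℤ)⟧) := by
  haveI := fun {V W : Scheme.{u}} (f : V ⟶ W) => RpushQC.hasRpush f
  haveI := fun {V W : Scheme.{u}} (f : V ⟶ W) => Groth.L00.KFlat.hasLpull f
  have hP₁ : PicF.IsInvertible P' := hP'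
  let f := pullback.snd Q.hom A.hom
  obtain ⟨eθ⟩ := nonempty_tensor_pull (FMK.p12 A.hom Q.hom A.hom) (FMK.p23 A.hom Q.hom A.hom) hP hP₁ _
    hsum
  obtain ⟨eS⟩ := Groth.L10.FMBC.nonempty_S0_pull (theta A Q) hP₁ (Iso.refl _)
  haveI : Flat μ[A].left := MorphismProperty.of_isPullback (Groth.L10.FMBC.isPullback_mul (A := A)).flip inferInstance
  have hq : DCoh.IsQCohD (DCoh.toD _ (Groth.Lead.LTMod.S0 P')) := Groth.L10.FMBC.isQCohD_S0 hP₁
  haveI : IsIso (β (isPullback_theta A Q).w (DCoh.toD _ (Groth.Lead.LTMod.S0 P'))) :=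
    Groth.L10.FMBC.bc_of_flat_or (isPullback_theta A Q) (Or.inr inferInstance) _ hq
  obtain ⟨eR⟩ := nonempty_Rpush_of_concentrated f P'
    ((Coh.push η[A].left).obj (Coh.structureModule (Spec (CommRingCat.of k)))) g
    h0 htop
  haveI : IsClosedImmersion η[A].left := by
    haveI : IsClosedImmersion (η[A].left ≫ A.hom) := by
      rw [Over.w η[A]]
      exact inferInstanceAs (IsClosedImmersion (𝟙 _))
    exact IsClosedImmersion.of_comp η[A].left A.hom
  haveI := isClosedImmersion_antidiag (A := A)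
  obtain ⟨p₀⟩ := Groth.L10.RegDiag.nonempty_push_single η[A].left (Coh.structureModule (Spec (CommRingCat.of k)))
  obtain ⟨p₁⟩ := Groth.L10.RegDiag.nonempty_push_single (antidiag A).left (Coh.structureModule A.left)
  haveI : IsIso (β (isPullback_antidiag (A := A)).w (DCoh.toD _ (RHom.O0 (Spec (CommRingCat.of k))))) :=
    Groth.L10.FMBC.bc_of_flat_or (isPullback_antidiag (A := A)) (Or.inr inferInstance) _
      (Groth.L10.RegDiag.isQCohD_O _)
  obtain ⟨eO⟩ := Groth.L10.FMBC.nonempty_Lpull_O0' A.hom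
  letI := commShiftLpull μ[A].left
  exact ⟨(DCoh.Rpush (FMK.p13 A.hom Q.hom A.hom)).mapIso (eθ ≪≫ eS) ≪≫
    (asIso (β (isPullback_theta A Q).w (DCoh.toD _ (Groth.Lead.LTMod.S0 P')))).symm ≪≫
    (DCoh.Lpull μ[A].left).mapIso ((DCoh.Rpush f).mapIso
      ((DerivedCategory.singleFunctorIsoCompQ _ 0).app P').symm ≪≫ eR) ≪≫
    ((DCoh.Lpull μ[A].left).commShiftIso (-(g : ℤ))).app _ ≪≫
    (shiftFunctor _ (-(g : ℤ))).mapIso ((DCoh.Lpull μ[A].left).mapIso p₀ ≪≫
      asIso (β (isPullback_antidiag (A := A)).w (DCoh.toD _ (RHom.O0 (Spec (CommRingCat.of k))))) ≪≫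
      (DCoh.Rpush (antidiag A).left).mapIso eO ≪≫ p₁.symm)⟩

set_option maxHeartbeats 1600000 in
/-- Mukai's inversion formula. -/
theorem nonempty_comp_of
    [DCoh.HasLpull (pullback.fst A.hom Q.hom)] [DCoh.HasLTensorMod P] [DCoh.HasRpush (pullback.snd A.hom Q.hom)]
    [DCoh.HasLpull (pullback.fst Q.hom A.hom)] [DCoh.HasLTensorMod P']
    [DCoh.HasRpush (pullback.snd Q.hom A.hom)] [DCoh.HasLpull ((𝟙 A)⁻¹).left] :
    Nonempty (ObjectProperty.ι (DCoh.IsQCohD (X := A.left)) ⋙
        (DCoh.Lpull (pullback.fst A.hom Q.hom) ⋙ DCoh.LTensorMod P ⋙ DCoh.Rpush (pullback.snd A.hom Q.hom)) ⋙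
        (DCoh.Lpull (pullback.fst Q.hom A.hom) ⋙ DCoh.LTensorMod P' ⋙
          DCoh.Rpush (pullback.snd Q.hom A.hom)) ≅
      ObjectProperty.ι (DCoh.IsQCohD (X := A.left)) ⋙ DCoh.Lpull ((𝟙 A)⁻¹).left ⋙
        shiftFunctor (DCoh.D A.left) (-(g : ℤ))) := by
  haveI := fun {V W : Scheme.{u}} (f : V ⟶ W) => RpushQC.hasRpush f
  haveI := fun {V W : Scheme.{u}} (f : V ⟶ W) => Groth.L00.KFlat.hasLpull f
  haveI := fun {V : Scheme.{u}} (E : CochainComplex V.Modules ℤ) => Groth.L00.KFlat.hasLTensorCx E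
  haveI := isClosedImmersion_antidiag (A := A)
  obtain ⟨ec⟩ := nonempty_conv P hP P' hP' hsum g h0 htop
  let N := DerivedCategory.Q.objPreimage (FMK.conv A.hom Q.hom A.hom (Groth.Lead.LTMod.S0 P)
    ((FMK.cxPull (FMK.p23 A.hom Q.hom A.hom)).obj (Groth.Lead.LTMod.S0 P')))
  let eN : DCoh.toD _ N ≅ _ := DerivedCategory.Q.objObjPreimageIso (FMK.conv A.hom Q.hom A.hom
    (Groth.Lead.LTMod.S0 P) ((FMK.cxPull (FMK.p23 A.hom Q.hom A.hom)).obj (Groth.Lead.LTMod.S0 P')))
  obtain ⟨i⟩ := Groth.L10.FMBC.nonempty_phi_comp A.hom Q.hom A.hom (Groth.Lead.LTMod.S0 P)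
    (Groth.Lead.LTMod.S0 P') (Groth.L10.FMBC.isQCohD_S0 hP)
    (Groth.L10.FMBC.isQCohD_S0 hP') N ⟨eN⟩
  obtain ⟨j⟩ := nonempty_phi_graph (antidiag A).left (pullback.fst A.hom A.hom) (pullback.snd A.hom A.hom)
    ((𝟙 A)⁻¹).left (congrArg CommaMorphism.left (lift_fst (𝟙 A)⁻¹ (𝟙 A)))
    (congrArg CommaMorphism.left (lift_snd (𝟙 A)⁻¹ (𝟙 A))) (-(g : ℤ)) N ⟨eN ≪≫ ec⟩
  let jq := ObjectProperty.ι (DCoh.IsQCohD (X := A.left))
  let u₁ : (DCoh.Lpull (pullback.fst A.hom Q.hom) ⋙ DCoh.LTensorMod P ⋙ DCoh.Rpush (pullback.snd A.hom Q.hom)) ≅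
      FMK.phi A.hom Q.hom (Groth.Lead.LTMod.S0 P) :=
    Functor.isoWhiskerLeft _ (Functor.isoWhiskerRight (Groth.Lead.LTMod.iso P) _)
  let u₂ : (DCoh.Lpull (pullback.fst Q.hom A.hom) ⋙ DCoh.LTensorMod P' ⋙
      DCoh.Rpush (pullback.snd Q.hom A.hom)) ≅ FMK.phi Q.hom A.hom (Groth.Lead.LTMod.S0 P') :=
    Functor.isoWhiskerLeft _ (Functor.isoWhiskerRight (Groth.Lead.LTMod.iso P') _)
  exact ⟨Functor.isoWhiskerLeft jq (Functor.isoWhiskerRight u₁ _ ≪≫ Functor.isoWhiskerLeft _ u₂) ≪≫ i.symm ≪≫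
    Functor.isoWhiskerLeft jq j⟩

end General

variable {k : Type u} [Field k] {A At : Over (Spec (CommRingCat.of k))} [GrpObj A] [GrpObj At]
  [IsProper A.hom] [Smooth A.hom] [GeometricallyConnected A.hom]
  [IsProper At.hom] [Smooth At.hom] [GeometricallyConnected At.hom]
  {φ : ∀ T : Over (Spec (CommRingCat.of k)), PicF.Cl (PicF.XT A.hom T) → (T ⟶ At)}
  (hφ : AbDual.IsDualAV Scheme.fppfPrecoverage A At φ) (P : (pullback A.hom At.hom).Modules)
  (hP : PicF.IsInvertible P) (hPξ : AbDual.IsPoincareCl A At φ (PicF.cl P))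
  (g : ℕ) (hgA : topologicalKrullDim ↥A.left = g) (hgAt : topologicalKrullDim ↥At.left = g)

include hφ hP hPξ hgA hgAt

/-- Mukai's inversion formula. -/
theorem nonempty_comp
    [DCoh.HasLpull (pullback.fst A.hom At.hom)] [DCoh.HasLTensorMod P] [DCoh.HasRpush (pullback.snd A.hom At.hom)]
    [DCoh.HasLpull (pullback.fst At.hom A.hom)] [DCoh.HasLTensorMod (flipP P)]
    [DCoh.HasRpush (pullback.snd At.hom A.hom)] [DCoh.HasLpull ((𝟙 A)⁻¹).left] :
    Nonempty (ObjectProperty.ι (DCoh.IsQCohD (X := A.left)) ⋙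
        (DCoh.Lpull (pullback.fst A.hom At.hom) ⋙ DCoh.LTensorMod P ⋙ DCoh.Rpush (pullback.snd A.hom At.hom)) ⋙
        (DCoh.Lpull (pullback.fst At.hom A.hom) ⋙ DCoh.LTensorMod (flipP P) ⋙
          DCoh.Rpush (pullback.snd At.hom A.hom)) ≅
      ObjectProperty.ι (DCoh.IsQCohD (X := A.left)) ⋙ DCoh.Lpull ((𝟙 A)⁻¹).left ⋙
        shiftFunctor (DCoh.D A.left) (-(g : ℤ))) :=
  haveI := Groth.L17.PushQCoh.hasInjectiveResolutions (pullback At.hom A.hom)
  nonempty_comp_of P hP (flipP P) (PicLoc.isInvertible_pullback _ hP) (nonempty_kernel_sum hφ P hP hPξ) g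
    (fun i hi => Mumford.isZero_Rpush_flip hφ P hP hPξ g hgA hgAt i hi)
    (Mumford.nonempty_Rpush_flip hφ P hP hPξ g hgA hgAt)

/-- The inversion formula on the dual side. -/
theorem nonempty_comp'
    [DCoh.HasLpull (pullback.fst A.hom At.hom)] [DCoh.HasLTensorMod P] [DCoh.HasRpush (pullback.snd A.hom At.hom)]
    [DCoh.HasLpull (pullback.fst At.hom A.hom)] [DCoh.HasLTensorMod (flipP P)]
    [DCoh.HasRpush (pullback.snd At.hom A.hom)] [DCoh.HasLpull ((𝟙 At)⁻¹).left] :
    Nonempty (ObjectProperty.ι (DCoh.IsQCohD (X := At.left)) ⋙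
        (DCoh.Lpull (pullback.fst At.hom A.hom) ⋙ DCoh.LTensorMod (flipP P) ⋙
          DCoh.Rpush (pullback.snd At.hom A.hom)) ⋙
        (DCoh.Lpull (pullback.fst A.hom At.hom) ⋙ DCoh.LTensorMod P ⋙ DCoh.Rpush (pullback.snd A.hom At.hom)) ≅
      ObjectProperty.ι (DCoh.IsQCohD (X := At.left)) ⋙ DCoh.Lpull ((𝟙 At)⁻¹).left ⋙
        shiftFunctor (DCoh.D At.left) (-(g : ℤ))) :=
  haveI := Groth.L17.PushQCoh.hasInjectiveResolutions (pullback A.hom At.hom)
  have hc := Mumford.poincareLike_of_isDualAV hφ hPξ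
  nonempty_comp_of (A := At) (Q := A) (flipP P) (PicLoc.isInvertible_pullback _ hP) P hP
    (nonempty_kernel_sum' hφ P hP hPξ) g
    (fun i hi => Mumford.isZero_Rpush (A := A) (Q := At) hc P rfl hP g hgA hgAt i hi)
    (Mumford.nonempty_Rpush_top (A := A) (Q := At) hc P rfl hP g hgA hgAt)

end Groth.Agent.L26.FMInv
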